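import Groth.Agent.LefHyp.Ideal
import Groth.Agent.ProperFin.PnBase
import Groth.Agent.IdealSh.Comap
import Groth.Agent.RelProjLib.ProjMap

/-!
# Base change and diagonal rescaling of hypersurfaces

`comap_hypIdeal`: the preimage of a hypersurface under a map of projective spaces given by a graded
ring map that rescales the coordinates is the hypersurface of the image form.
`exists_pullback`: the base change of `V₊(F)` along `φ : A →+* B` is `V₊` of the form with
coefficients moved by `φ` and coordinates rescaled by units.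
-/

set_option autoImplicit false
set_option linter.style.haveILetI false
set_option backward.isDefEq.respectTransparency false
set_option backward.isDefEq.respectTransparency.types false

universe u

open CategoryTheory CategoryTheory.Limits AlgebraicGeometry TopologicalSpace HomogeneousLocalization
open scoped HomogeneousIdeal

noncomputable section

namespace Groth.Agent.HypBC

open Groth.Agent.QCoh Groth.Agent.ProjMorph Groth.Agent.Props.ProjFrame
open Groth.Agent.SepTang48 (D isAffineOpen_D iSup_D)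

variable {A B : Type u} [Field A] [Field B] {r d : ℕ}

theorem le_basicOpen_pow {f : MvPolynomial (Fin (r + 1)) B} {W : (CohB1.ProjSpace r B).Opens}
    (hW : W ≤ Proj.basicOpen (CohB1.polyGrading r B) f) (d : ℕ) :
    W ≤ Proj.basicOpen (CohB1.polyGrading r B) (f ^ d) := fun x hx h =>
  hW hx ((show ProjectiveSpectrum (CohB1.polyGrading r B) from x).isPrime.mem_of_pow_mem d h)

theorem appLE_dehom (θ : CohB1.polyGrading r A →+*ᵍ CohB1.polyGrading r B)
    (hθ : (CohB1.polyGrading r B)₊ ≤ (CohB1.polyGrading r A)₊.map θ) (F : LefPen.Form r A d) (j : Fin (r + 1))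
    (W : (CohB1.ProjSpace r B).Opens) (hW : W ≤ Proj.basicOpen (CohB1.polyGrading r B) (θ (MvPolynomial.X j)))
    (x : W) :
    valAt ((Proj.map θ hθ).appLE (D A r j) W hW (LefPen.dehom F j)) x =
      Localization.mk (θ F.1) ⟨θ (MvPolynomial.X j) ^ d, le_basicOpen_pow hW d x.2⟩ := by
  have h0 := congrArg (fun q => q.hom (Away.mk (CohB1.polyGrading r A) (LefPen.X_mem r A j) d F.1
    (by rw [smul_eq_mul, mul_one]; exact F.2))) (Proj.awayToSection_comp_appLE θ hθ (LefPen.X_mem r A j))
  simp only [CommRingCat.hom_comp, RingHom.coe_comp, Function.comp_apply, CommRingCat.hom_ofHom,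
    Away.map_mk] at h0
  have h1 : (Proj.map θ hθ).appLE (D A r j) W hW (LefPen.dehom F j) =
      rres hW ((Proj.map θ hθ).appLE (D A r j) (Proj.basicOpen (CohB1.polyGrading r B) (θ (MvPolynomial.X j)))
        le_rfl (LefPen.dehom F j)) := by
    exact (congrArg (fun q => q.hom (LefPen.dehom F j))
      (Scheme.Hom.appLE_map (Proj.map θ hθ) le_rfl (homOfLE hW).op)).symm
  rw [h1]
  refine (valAt_rres _ _ _).trans ?_
  refine Eq.trans (congrArg (fun s => valAt s (⟨x.1, hW x.2⟩ : Proj.basicOpen (CohB1.polyGrading r B)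
    (θ (MvPolynomial.X j)))) h0) ?_
  refine (ProjectiveSpectrum.Proj.awayToSection_apply (CohB1.polyGrading r B) _ _ _).trans ?_
  rw [Away.val_mk, Localization.mk_eq_mk', IsLocalization.map_mk', ← Localization.mk_eq_mk']
  rfl

theorem comap_hypIdeal (θ : CohB1.polyGrading r A →+*ᵍ CohB1.polyGrading r B)
    (hθ : (CohB1.polyGrading r B)₊ ≤ (CohB1.polyGrading r A)₊.map θ)
    (hX : ∀ j, ∃ c : B, c ≠ 0 ∧ θ (MvPolynomial.X j) = MvPolynomial.C c * MvPolynomial.X j)
    (F : LefPen.Form r A d) (G : LefPen.Form r B d) (hG : G.1 = θ F.1) :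
    (LefPen.hypIdeal F).comap (Proj.map θ hθ) = LefPen.hypIdeal G := by
  choose c hc hcX using hX
  have hDle : ∀ j, D B r j ≤ Proj.basicOpen (CohB1.polyGrading r B) (θ (MvPolynomial.X j)) := by
    intro j x hx h
    rw [hcX j] at h
    let y : ProjectiveSpectrum (CohB1.polyGrading r B) := x
    rcases y.isPrime.mem_or_mem (show MvPolynomial.C (c j) * MvPolynomial.X j ∈ y.asHomogeneousIdeal.toIdeal from h) with h1 | h1
    · exact y.isPrime.ne_top (Ideal.eq_top_of_isUnit_mem _ h1 ((isUnit_iff_ne_zero.2 (hc j)).map MvPolynomial.C))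
    · exact hx h1
  refine Scheme.IdealSheafData.ext_of_iSup_eq_top (fun j : Fin (r + 1) => (⟨D B r j, isAffineOpen_D B r j⟩ :
    (CohB1.ProjSpace r B).affineOpens)) (iSup_D B r) fun j => ?_
  have hA : (LefPen.hypIdeal F).ideal ⟨D A r j, isAffineOpen_D A r j⟩ = Ideal.span {LefPen.dehom F j} := by
    rw [LefHyp.hypIdeal_ideal_of_le F j ⟨D A r j, isAffineOpen_D A r j⟩ le_rfl, rres_self]
  rw [IdealSh.Comap.ideal_comap_span_singleton (LefPen.hypIdeal F) (Proj.map θ hθ)
      ⟨D A r j, isAffineOpen_D A r j⟩ ⟨D B r j, isAffineOpen_D B r j⟩ (hDle j) hA,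
    LefHyp.hypIdeal_ideal_of_le G j ⟨D B r j, isAffineOpen_D B r j⟩ le_rfl, rres_self]
  have hmem₁ : (θ (MvPolynomial.X j) ^ d) ∈ CohB1.polyGrading r B d := by
    simpa using SetLike.pow_mem_graded d (θ.2 (LefPen.X_mem r A j))
  have hmem₂ : (MvPolynomial.X j ^ d : MvPolynomial (Fin (r + 1)) B) ∈ CohB1.polyGrading r B d :=
    LefHyp.X_pow_mem j d
  have hle₁ : D B r j ≤ Proj.basicOpen (CohB1.polyGrading r B) (θ (MvPolynomial.X j) ^ d) := fun x hx h =>
    hDle j hx ((show ProjectiveSpectrum (CohB1.polyGrading r B) from x).isPrime.mem_of_pow_mem d h)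
  let w := coeff hmem₁ hmem₂ (D B r j) (LefHyp.D_le_pow j d)
  let w' := coeff hmem₂ hmem₁ (D B r j) hle₁
  have hu : IsUnit w := by
    refine isUnit_iff_exists_inv.2 ⟨w', valAt_ext fun x => ?_⟩
    rw [valAt_mul, valAt_coeff, valAt_coeff, Localization.mk_mul]
    refine Eq.trans ?_ HomogeneousLocalization.val_one.symm
    rw [← Localization.mk_one, Localization.mk_eq_mk_iff, Localization.r_iff_exists]
    exact ⟨1, by simp only [OneMemClass.coe_one, Submonoid.coe_mul, one_mul, mul_one]; ring⟩
  refine (Ideal.span_singleton_mul_right_unit hu _).symm.trans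
    (congrArg (fun a => Ideal.span {a}) (valAt_ext fun x => ?_))
  rw [valAt_mul]
  refine (congrArg₂ (· * ·) (appLE_dehom θ hθ F j (D B r j) (hDle j) x)
    (valAt_coeff hmem₁ hmem₂ (D B r j) (LefHyp.D_le_pow j d) x)).trans ?_
  rw [LefHyp.valAt_dehom, Localization.mk_mul, Localization.mk_eq_mk_iff, Localization.r_iff_exists]
  refine ⟨1, ?_⟩
  simp only [OneMemClass.coe_one, Submonoid.coe_mul, one_mul, hG]
  ring

section scale

variable (φ : A →+* B) (c : Fin (r + 1) → Bˣ)

/-- Move the coefficients by `φ` and rescale the coordinates. -/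
def scaleHom : MvPolynomial (Fin (r + 1)) A →+* MvPolynomial (Fin (r + 1)) B :=
  MvPolynomial.eval₂Hom ((MvPolynomial.C).comp φ) fun i => MvPolynomial.C (c i : B) * MvPolynomial.X i

theorem scaleHom_C (a : A) : scaleHom φ c (MvPolynomial.C a) = MvPolynomial.C (φ a) :=
  MvPolynomial.eval₂_C _ _ a

theorem scaleHom_X (i : Fin (r + 1)) :
    scaleHom φ c (MvPolynomial.X i) = MvPolynomial.C (c i : B) * MvPolynomial.X i :=
  MvPolynomial.eval₂_X _ _ i

/-- `scaleHom` as a graded ring map. -/
def scaleGr : CohB1.polyGrading r A →+*ᵍ CohB1.polyGrading r B where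
  toRingHom := scaleHom φ c
  map_mem {i p} hp := by
    have h := MvPolynomial.IsHomogeneous.eval₂ (MvPolynomial.IsHomogeneous.map hp φ) MvPolynomial.C
      (fun i => MvPolynomial.C (c i : B) * MvPolynomial.X i)
      (fun b => MvPolynomial.isHomogeneous_C _ b)
      (fun i => (MvPolynomial.isHomogeneous_X B i).C_mul (c i : B))
    rw [MvPolynomial.eval₂_map, one_mul] at h
    exact h

/-- Rescaling the coordinates. -/
def diagEquiv : MvPolynomial (Fin (r + 1)) B ≃+* MvPolynomial (Fin (r + 1)) B :=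
  RingEquiv.ofRingHom (scaleHom (RingHom.id B) c) (scaleHom (RingHom.id B) fun i => (c i)⁻¹)
    (MvPolynomial.ringHom_ext (fun a => by simp [scaleHom_C]) fun i => by
      rw [RingHom.comp_apply, scaleHom_X, map_mul, scaleHom_C, scaleHom_X, RingHom.id_apply, ← mul_assoc,
        ← map_mul, Units.inv_mul, map_one, one_mul, RingHom.id_apply])
    (MvPolynomial.ringHom_ext (fun a => by simp [scaleHom_C]) fun i => by
      rw [RingHom.comp_apply, scaleHom_X, map_mul, scaleHom_C, scaleHom_X, RingHom.id_apply, ← mul_assoc,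
        ← map_mul, Units.mul_inv, map_one, one_mul, RingHom.id_apply])

theorem isPushout_scale :
    IsPushout (CommRingCat.ofHom φ)
      (CommRingCat.ofHom (MvPolynomial.C : A →+* MvPolynomial (Fin (r + 1)) A))
      (CommRingCat.ofHom (MvPolynomial.C : B →+* MvPolynomial (Fin (r + 1)) B))
      (CommRingCat.ofHom (scaleGr φ c).toRingHom) := by
  refine (ProperFin.isPushout_map r φ).of_iso (Iso.refl _) (Iso.refl _) (Iso.refl _)
    (diagEquiv c).toCommRingCatIso ?_ ?_ ?_ ?_
  · simp
  · simp
  · ext1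
    refine RingHom.ext fun b => ?_
    simp [diagEquiv, scaleHom_C]
  · ext1
    refine MvPolynomial.ringHom_ext (fun a => ?_) fun i => ?_
    · simp [diagEquiv, scaleGr, ProperFin.mapGr, scaleHom_C]
    · simp [diagEquiv, scaleGr, ProperFin.mapGr, scaleHom_X]

theorem irrelevant_le : (CohB1.polyGrading r B)₊ ≤ (CohB1.polyGrading r A)₊.map (scaleGr φ c) :=
  RelProjLib.irrelevant_le_map_of_isPushout (scaleGr φ c) φ MvPolynomial.C MvPolynomial.C
    (ProperFin.C_mem r) (isPushout_scale φ c)

theorem isPullback_map :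
    IsPullback (Proj.map (scaleGr φ c) (irrelevant_le φ c)) (CohB1.ProjSpace.toSpec r B)
      (CohB1.ProjSpace.toSpec r A) (Spec.map (CommRingCat.ofHom φ)) := by
  let ψ := scaleGr φ c
  let m := Proj.map ψ (irrelevant_le φ c)
  refine Scheme.isPullback_of_openCover _ _ _ _
    (Proj.affineOpenCoverOfIrrelevantLESpan (CohB1.polyGrading r A) MvPolynomial.X
      (fun i => MvPolynomial.isHomogeneous_X A i) (fun _ => one_pos)
      (ProperFin.irrelevant_le_span r)).openCover fun i => ?_
  let x : MvPolynomial (Fin (r + 1)) A := MvPolynomial.X i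
  have hx : x ∈ CohB1.polyGrading r A 1 := MvPolynomial.isHomogeneous_X A i
  let ιA : Spec (CommRingCat.of (HomogeneousLocalization.Away (CohB1.polyGrading r A) x)) ⟶
      CohB1.ProjSpace r A := Proj.awayι (CohB1.polyGrading r A) x hx one_pos
  let ιB : Spec (CommRingCat.of (HomogeneousLocalization.Away (CohB1.polyGrading r B) (ψ x))) ⟶
      CohB1.ProjSpace r B := Proj.awayι (CohB1.polyGrading r B) (ψ x) (ψ.2 hx) one_pos
  let g := Spec.map (CommRingCat.ofHom (HomogeneousLocalization.Away.map ψ x))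
  have : IsOpenImmersion ιA :=
    inferInstanceAs (IsOpenImmersion (Proj.awayι (CohB1.polyGrading r A) x hx one_pos))
  have : IsOpenImmersion ιB := inferInstanceAs
    (IsOpenImmersion (Proj.awayι (CohB1.polyGrading r B) (ψ x) (ψ.2 hx) one_pos))
  have sq : IsPullback g ιB ιA m := by
    refine IsOpenImmersion.isPullback g ιB ιA m ?_ ?_
    · exact Proj.awayι_comp_map ψ (irrelevant_le φ c) one_pos x hx
    · have hA : ιA.opensRange = Proj.basicOpen (CohB1.polyGrading r A) x :=
        Proj.opensRange_awayι (CohB1.polyGrading r A) x hx one_pos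
      have hB : ιB.opensRange = Proj.basicOpen (CohB1.polyGrading r B) (ψ x) :=
        Proj.opensRange_awayι (CohB1.polyGrading r B) (ψ x) (ψ.2 hx) one_pos
      rw [hA, hB]
      exact Proj.map_preimage_basicOpen ψ (irrelevant_le φ c) x
  have big : IsPullback g (ιB ≫ CohB1.ProjSpace.toSpec r B) (ιA ≫ CohB1.ProjSpace.toSpec r A)
      (Spec.map (CommRingCat.ofHom φ)) := by
    rw [show ιA ≫ CohB1.ProjSpace.toSpec r A = _ from ProperFin.awayι_toSpec r x hx one_pos,
      show ιB ≫ CohB1.ProjSpace.toSpec r B = _ from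
        ProperFin.awayι_toSpec r (ψ x) (ψ.2 hx) one_pos]
    exact (isPullback_SpecMap_of_isPushout _ _ _ _
      (RelProjLib.isPushout_away ψ φ MvPolynomial.C MvPolynomial.C (ProperFin.C_mem r) (ProperFin.C_mem r)
        (isPushout_scale φ c) hx)).flip
  let e := sq.flip.isoPullback
  refine big.of_iso e (Iso.refl _) (Iso.refl _) (Iso.refl _) ?_ ?_ ?_ ?_
  · change g ≫ 𝟙 _ = e.hom ≫ pullback.snd m ιA
    rw [Category.comp_id]
    exact sq.flip.isoPullback_hom_snd.symm
  · change (ιB ≫ _) ≫ 𝟙 _ = e.hom ≫ pullback.fst m ιA ≫ _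
    rw [Category.comp_id]
    exact (sq.flip.isoPullback_hom_fst_assoc _).symm
  · change (ιA ≫ _) ≫ 𝟙 _ = 𝟙 _ ≫ ιA ≫ _
    rw [Category.comp_id, Category.id_comp]
  · rw [Iso.refl_hom, Category.comp_id, Iso.refl_hom, Category.id_comp]

/-- The image form. -/
def scaleForm (F : LefPen.Form r A d) : LefPen.Form r B d := ⟨scaleHom φ c F.1, (scaleGr φ c).2 F.2⟩

/-- The base change of a hypersurface is the hypersurface of the moved form. -/
theorem exists_pullback (F : LefPen.Form r A d) :
    ∃ p : (LefPen.hypIdeal (scaleForm φ c F)).subscheme ⟶ (LefPen.hypIdeal F).subscheme,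
      IsPullback p ((LefPen.hypIdeal (scaleForm φ c F)).subschemeι ≫ CohB1.ProjSpace.toSpec r B)
        ((LefPen.hypIdeal F).subschemeι ≫ CohB1.ProjSpace.toSpec r A) (Spec.map (CommRingCat.ofHom φ)) := by
  set g := Proj.map (scaleGr φ c) (irrelevant_le φ c)
  have h := comap_hypIdeal (scaleGr φ c) (irrelevant_le φ c)
    (fun j => ⟨c j, (c j).ne_zero, scaleHom_X φ c j⟩) F (scaleForm φ c F) rfl
  rw [← h]
  let I := LefPen.hypIdeal F
  refine ⟨(I.comapIso g).hom ≫ pullback.snd _ _, ?_⟩
  refine IsPullback.paste_vert ?_ (isPullback_map φ c)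
  refine (IsPullback.of_iso_pullback ⟨?_⟩ (I.comapIso g) (Scheme.IdealSheafData.comapIso_hom_fst I g) rfl).flip
  rw [Category.assoc, ← pullback.condition, ← Category.assoc, Scheme.IdealSheafData.comapIso_hom_fst]

end scale

end Groth.Agent.HypBC
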