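import Groth.Agent.HypBC.Basic
import Groth.Agent.LefHyp.Space
import Groth.Agent.FFCurve.PlaneCurveFF
import Groth.Agent.EulerChar.Push
import Groth.Agent.TwistFlat.HilbInt
import Groth.Agent.Snapper.BaseChange
import Groth.Agent.FEtCat.Lef.Completion
import Groth.Agent.QuadricCount.Points
import Groth.Agent.ProperFin.Supp
import Groth.Prelude.Def_ModFun

/-!
# The Hesse cubics `X₀³ + a X₁³ + b X₂³ + c X₀X₁X₂`

* `isCurveOfGenus_hesse`: such a cubic is a curve of genus one when `c (c³ + 27 a b) ≠ 0`, `a b ≠ 0`.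
* `exists_zero_of_section`, `exists_section_of_zero`: rational points are nontrivial zeros.
-/

set_option autoImplicit false
set_option linter.style.haveILetI false
set_option backward.isDefEq.respectTransparency false
set_option backward.isDefEq.respectTransparency.types false

universe u

open CategoryTheory CategoryTheory.Limits AlgebraicGeometry MvPolynomial

noncomputable section

namespace Groth.Agent.HypBC

variable {K : Type u} [Field K]

/-- The Hesse cubic. -/
def hesse (a b c : K) : LefPen.Form 2 K 3 :=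
  ⟨X 0 ^ 3 + C a * X 1 ^ 3 + C b * X 2 ^ 3 + C c * (X 0 * X 1 * X 2),
    (mem_homogeneousSubmodule _ _).2
      (((((isHomogeneous_X K 0).pow 3).add (((isHomogeneous_X K 1).pow 3).C_mul a)).add
        (((isHomogeneous_X K 2).pow 3).C_mul b)).add
        ((((isHomogeneous_X K 0).mul (isHomogeneous_X K 1)).mul (isHomogeneous_X K 2)).C_mul c))⟩

lemma hesse_ne_zero (a b c : K) : hesse a b c ≠ 0 := fun h => by
  have := congrArg (eval (fun i : Fin 3 => if i = 0 then (1 : K) else 0)) (congrArg Subtype.val h)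
  simp [hesse] at this

/-- Moving a Hesse cubic by `φ` and rescaling the last two coordinates. -/
lemma scaleForm_hesse {L : Type u} [Field L] (φ : K →+* L) (u v : Lˣ) (a b c : K) :
    scaleForm φ ![1, u, v] (hesse a b c) =
      hesse (φ a * (u : L) ^ 3) (φ b * (v : L) ^ 3) (φ c * (u * v : L)) := by
  refine Subtype.ext ?_
  simp [scaleForm, hesse, scaleHom_C, scaleHom_X, mul_pow, map_mul, map_pow]
  ring

lemma scaleForm_hesse_one {L : Type u} [Field L] (φ : K →+* L) (a b c : K) :
    scaleForm φ ![1, 1, 1] (hesse a b c) = hesse (φ a) (φ b) (φ c) := by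
  rw [scaleForm_hesse φ 1 1 a b c]
  simp

section smooth

lemma affine_contra {D : Type u} [CommRing D] [IsDomain D] [Algebra K D] (p q r c : K)
    (hr : r ≠ 0) (hc : c ≠ 0) (h27 : c ^ 3 + 27 * (p * q * r) ≠ 0) (x y : D)
    (hf : algebraMap K D p * x ^ 3 + algebraMap K D q * y ^ 3 + algebraMap K D r + algebraMap K D c * (x * y) = 0)
    (hx : 3 * algebraMap K D p * x ^ 2 + algebraMap K D c * y = 0)
    (hy : 3 * algebraMap K D q * y ^ 2 + algebraMap K D c * x = 0) : False := by
  have inj := (algebraMap K D).injective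
  have hc' : algebraMap K D c ≠ 0 := (map_ne_zero_iff _ inj).2 hc
  have hr' : algebraMap K D r ≠ 0 := (map_ne_zero_iff _ inj).2 hr
  by_cases h3 : (3 : D) = 0
  · rw [h3, zero_mul, zero_mul, zero_add, mul_eq_zero] at hx hy
    rw [hx.resolve_left hc', hy.resolve_left hc'] at hf
    exact hr' (by linear_combination hf)
  · set P := algebraMap K D p
    set Q := algebraMap K D q
    set R := algebraMap K D r
    set c' := algebraMap K D c
    have h4 : c' * (x * y) = -3 * R := by linear_combination 3 * hf - x * hx - y * hy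
    have h5 : P * x ^ 3 = R :=
      mul_left_cancel₀ h3 (by linear_combination x * hx - h4)
    have h6 : Q * y ^ 3 = R :=
      mul_left_cancel₀ h3 (by linear_combination y * hy - h4)
    have h7 : R ^ 2 * (c' ^ 3 + 27 * (P * Q * R)) = 0 := by
      have h8 : (P * x ^ 3) * (Q * y ^ 3) * c' ^ 3 = P * Q * (c' * (x * y)) ^ 3 := by ring
      rw [h4, h5, h6] at h8
      linear_combination h8
    refine h27 (inj ?_)
    rw [map_zero]
    simpa [P, Q, R, c', map_ofNat] using (mul_eq_zero.1 h7).resolve_left (pow_ne_zero 2 hr')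

lemma formallySmooth_affine (p q r c : K) (hr : r ≠ 0) (hc : c ≠ 0) (h27 : c ^ 3 + 27 * (p * q * r) ≠ 0) :
    Algebra.FormallySmooth K (MvPolynomial (Fin 2) K ⧸
      Ideal.span {C p * X 0 ^ 3 + C q * X 1 ^ 3 + C r + C c * (X 0 * X 1)}) := by
  have hf : (C p * X 0 ^ 3 + C q * X 1 ^ 3 + C r + C c * (X 0 * X 1) : MvPolynomial (Fin 2) K) ≠ 0 := fun h => by
    have := congrArg (eval (fun _ => (0 : K))) h
    simp [hr] at this
  refine (LefHyp.smooth_quotient_iff hf).2 fun P hP hfP => ?_
  by_contra hall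
  simp only [not_exists, not_not] at hall
  haveI := hP
  refine affine_contra (D := MvPolynomial (Fin 2) K ⧸ P) p q r c hr hc h27
    (Ideal.Quotient.mk P (X 0)) (Ideal.Quotient.mk P (X 1)) ?_ ?_ ?_
  · have := Ideal.Quotient.eq_zero_iff_mem.2 hfP
    simp only [map_add, map_mul, map_pow] at this
    exact this
  · have := Ideal.Quotient.eq_zero_iff_mem.2 (hall 0)
    simp [pderiv_X] at this
    refine Eq.trans ?_ this
    rw [← MvPolynomial.algebraMap_eq]
    simp only [Ideal.Quotient.mk_algebraMap, map_ofNat]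
    ring
  · have := Ideal.Quotient.eq_zero_iff_mem.2 (hall 1)
    simp [pderiv_X] at this
    refine Eq.trans ?_ this
    rw [← MvPolynomial.algebraMap_eq]
    simp only [Ideal.Quotient.mk_algebraMap, map_ofNat]
    ring

theorem smooth_hesse {a b c : K} (ha : a ≠ 0) (hb : b ≠ 0) (hc : c ≠ 0) (h27 : c ^ 3 + 27 * (a * b) ≠ 0) :
    Smooth ((LefPen.hypIdeal (hesse a b c)).subschemeι ≫ CohB1.ProjSpace.toSpec 2 K) := by
  refine (LefHyp.smooth_hypersurface_iff _).2 fun j => ?_
  have key : ∀ p q r : K, r ≠ 0 → p * q * r = a * b →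
      LefHyp.setOne (k := K) j (hesse a b c).1 = C p * X 0 ^ 3 + C q * X 1 ^ 3 + C r + C c * (X 0 * X 1) →
      Algebra.FormallySmooth K (MvPolynomial (Fin 2) K ⧸ Ideal.span {LefHyp.setOne (k := K) j (hesse a b c).1}) := by
    intro p q r hr hpqr h
    rw [h]
    exact formallySmooth_affine p q r c hr hc (by rwa [hpqr])
  fin_cases j
  · refine key a b 1 one_ne_zero (mul_one _) ?_
    have hv : (Fin.insertNth (0 : Fin 3) 1 MvPolynomial.X : Fin 3 → MvPolynomial (Fin 2) K) = ![1, X 0, X 1] := by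
      funext l; fin_cases l <;> rfl
    simp [LefHyp.setOne, hesse, hv]
    ring
  · refine key 1 b a ha (by ring) ?_
    have hv : (Fin.insertNth (1 : Fin 3) 1 MvPolynomial.X : Fin 3 → MvPolynomial (Fin 2) K) = ![X 0, 1, X 1] := by
      funext l; fin_cases l <;> rfl
    simp [LefHyp.setOne, hesse, hv]
    ring
  · refine key 1 a b hb (by ring) ?_
    have hv : (Fin.insertNth (2 : Fin 3) 1 MvPolynomial.X : Fin 3 → MvPolynomial (Fin 2) K) = ![X 0, X 1, 1] := by
      funext l; fin_cases l <;> rfl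
    simp [LefHyp.setOne, hesse, hv]

end smooth

/-- The genus transports along an isomorphism over the field. -/
theorem genus_iso {X Y : Scheme.{u}} (r : X ⟶ Spec (CommRingCat.of K)) (r' : Y ⟶ Spec (CommRingCat.of K))
    (e : X ≅ Y) (w : e.hom ≫ r' = r) :
    @Curv2.genus K _ X ⟨r⟩ = @Curv2.genus K _ Y ⟨r'⟩ := by
  letI : X.Over (Spec (CommRingCat.of K)) := ⟨r⟩
  letI : Y.Over (Spec (CommRingCat.of K)) := ⟨r'⟩
  let N := Coh.structureModule Y
  let P := (Scheme.Modules.pullback e.hom).obj N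
  haveI hN : N.IsQuasicoherent := AssSch.Structure.isQuasicoherent_structure Y
  haveI hP : P.IsQuasicoherent := QCoh.isQuasicoherent_pullback e.hom N
  haveI : IsIso ((Scheme.Modules.pullbackPushforwardAdjunction e.hom).unit.app N) := by
    refine (ClUnit.isIso_unit_iff_stalk e.hom N).2 ⟨fun z r hr t => ?_, fun x hx => (hx ⟨e.inv x, ?_⟩).elim⟩
    · rw [show r = 0 from (ConcreteCategory.bijective_of_isIso (e.hom.stalkMap z)).1 (hr.trans (map_zero _).symm), zero_smul]
    · exact congr($(e.inv_hom_id).base x)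
  haveI : IsAffineHom e.hom := inferInstance
  refine (((Snapper.finrank_HH_iso K (asIso (FEtCat.Lef.Completion.unitMap e.hom)) 1).symm.trans
    ((EulerChar.nonempty_pushEquiv (A := K) e.hom w P hP 1).some.finrank_eq).symm).trans
    (Snapper.finrank_HH_iso K (asIso ((Scheme.Modules.pullbackPushforwardAdjunction e.hom).unit.app N)).symm 1))

lemma geomFibre_hesse {a b c : K} (ha : a ≠ 0) (hb : b ≠ 0) (hc : c ≠ 0) (h27 : c ^ 3 + 27 * (a * b) ≠ 0)
    (L : Type u) [Field L] (t : Spec (CommRingCat.of L) ⟶ Spec (CommRingCat.of K)) (Z : Scheme.{u})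
    (i : Z ⟶ (LefPen.hypIdeal (hesse a b c)).subscheme) (q : Z ⟶ Spec (CommRingCat.of L))
    (h : IsPullback i q ((LefPen.hypIdeal (hesse a b c)).subschemeι ≫ CohB1.ProjSpace.toSpec 2 K) t) :
    IrreducibleSpace Z ∧ topologicalKrullDim Z = 1 ∧ @Curv2.genus L _ Z ⟨q⟩ = 1 := by
  obtain ⟨φ', rfl⟩ : ∃ φ', t = Spec.map φ' := ⟨Spec.preimage t, (Spec.map_preimage t).symm⟩
  let φ : K →+* L := φ'.hom
  have hφ : Spec.map φ' = Spec.map (CommRingCat.ofHom φ) := rfl
  obtain ⟨p, hp⟩ : ∃ p : (LefPen.hypIdeal (hesse (φ a) (φ b) (φ c))).subscheme ⟶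
      (LefPen.hypIdeal (hesse a b c)).subscheme, IsPullback p
        ((LefPen.hypIdeal (hesse (φ a) (φ b) (φ c))).subschemeι ≫ CohB1.ProjSpace.toSpec 2 L)
        ((LefPen.hypIdeal (hesse a b c)).subschemeι ≫ CohB1.ProjSpace.toSpec 2 K) (Spec.map φ') := by
    rw [← scaleForm_hesse_one φ a b c, hφ]
    exact exists_pullback φ ![(1 : Lˣ), 1, 1] (hesse a b c)
  let f := hesse (φ a) (φ b) (φ c)
  let r := (LefPen.hypIdeal f).subschemeι ≫ CohB1.ProjSpace.toSpec 2 L
  letI : (FFCurve.Plane.Cv f).Over (Spec (CommRingCat.of L)) := ⟨r⟩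
  haveI := ProjProper.Basic.isProper_toSpec 2 L
  haveI : IsProper ((FFCurve.Plane.Cv f) ↘ Spec (CommRingCat.of L)) := by
    change IsProper r
    infer_instance
  haveI : Smooth ((FFCurve.Plane.Cv f) ↘ Spec (CommRingCat.of L)) := by
    change Smooth r
    refine smooth_hesse ((map_ne_zero φ).2 ha) ((map_ne_zero φ).2 hb) ((map_ne_zero φ).2 hc) ?_
    intro h0
    exact h27 (φ.injective (by simpa [map_ofNat] using h0))
  have hf : f ≠ 0 := hesse_ne_zero _ _ _
  haveI := FFCurve.Plane.connectedSpace hf (by omega : 0 < 3)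
  haveI := FFCurve.isIntegral_of_connected (X := FFCurve.Plane.Cv f) L
  have hdim := FFCurve.Plane.dim_eq_one hf (by omega : 0 < 3)
  haveI := FFCurve.regCurve_of_smooth (X := FFCurve.Plane.Cv f) L hdim
  have hK := FFCurve.Plane.isFunctionField hf (by omega : 2 ≤ 3) hdim (rfl : _ = r)
  have hg := (FFCurve.Plane.deg_H_and_genus hf (by omega : 2 ≤ 3) hdim (rfl : _ = r)).2
  have hgen := FFCurve.genus_eq_genus (X := FFCurve.Plane.Cv f) L hdim hK
  let e := h.isoIsPullback _ _ hp
  have hw : e.hom ≫ r = q := h.isoIsPullback_hom_snd _ _ hp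
  refine ⟨?_, ?_, ?_⟩
  · haveI : IrreducibleSpace (FFCurve.Plane.Cv f) := inferInstance
    exact e.hom.homeomorph.symm.surjective.irreducibleSpace e.hom.homeomorph.symm.continuous
  · rw [e.hom.homeomorph.isHomeomorph.topologicalKrullDim_eq]
    exact hdim
  · rw [genus_iso q r e hw]
    refine hgen.trans ?_
    have : (FunFld.genus L (FFCurve.Plane.Cv f).functionField : ℤ) = 1 := by
      norm_num at hg
      linarith
    exact_mod_cast this

/-- A Hesse cubic is a curve of genus one. -/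
theorem isCurveOfGenus_hesse {a b c : K} (ha : a ≠ 0) (hb : b ≠ 0) (hc : c ≠ 0)
    (h27 : c ^ 3 + 27 * (a * b) ≠ 0) :
    ModFun.IsCurveOfGenus 1 ((LefPen.hypIdeal (hesse a b c)).subschemeι ≫ CohB1.ProjSpace.toSpec 2 K) := by
  haveI := ProjProper.Basic.isProper_toSpec 2 K
  refine ⟨smooth_hesse ha hb hc h27, inferInstance, ⟨?_⟩, ?_⟩
  · intro L _ y Z i q h
    exact (geomFibre_hesse ha hb hc h27 L y Z i q h).1
  · intro Ω _ _ t Z i q h
    exact (geomFibre_hesse ha hb hc h27 Ω t Z i q h).2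

section points

variable {n d : ℕ} (G : LefPen.Form n K d)

open Groth.Agent.ZetaLib Groth.Agent.QuadricCount

theorem exists_zero_of_section (s : Spec (CommRingCat.of K) ⟶ (LefPen.hypIdeal G).subscheme)
    (hs : s ≫ (LefPen.hypIdeal G).subschemeι ≫ CohB1.ProjSpace.toSpec n K = 𝟙 _) :
    ∃ v : Fin (n + 1) → K, v ≠ 0 ∧ MvPolynomial.aeval v G.1 = 0 := by
  let g := s ≫ (LefPen.hypIdeal G).subschemeι
  obtain ⟨i, hi⟩ := exists_mem_basicOpen n K (g (IsLocalRing.closedPoint K))
  have hrange : Set.range g ⊆ Set.range (chartι n K i) := by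
    rintro _ ⟨z, rfl⟩
    rw [show z = IsLocalRing.closedPoint K from Subsingleton.elim (α := PrimeSpectrum K) _ _]
    rw [← Proj.opensRange_awayι (CohB1.polyGrading n K) (X i) (ZetaLib.X_mem n K i) one_pos] at hi
    exact hi
  obtain ⟨ψ, hψ⟩ : ∃ ψ : HomogeneousLocalization.Away (CohB1.polyGrading n K) (X i) →+* K,
      Spec.map (CommRingCat.ofHom ψ) ≫ chartι n K i = g :=
    ⟨(Spec.preimage (IsOpenImmersion.lift (chartι n K i) g hrange)).hom, by
      rw [CommRingCat.ofHom_hom, Spec.map_preimage]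
      exact IsOpenImmersion.lift_fac _ _ _⟩
  let v : Fin (n + 1) → K := fun j => ψ (dh n K i (X j))
  have hcomp : ψ.comp (dh n K i) = (MvPolynomial.aeval v : MvPolynomial (Fin (n + 1)) K →ₐ[K] K).toRingHom := by
    refine MvPolynomial.ringHom_ext (fun r => ?_) fun j => by simp [v]
    have h1 : (Spec.map (CommRingCat.ofHom ψ) ≫ chartι n K i) ≫ str n K =
        Spec.map (𝟙 _) := by rw [hψ, Spec.map_id, Category.assoc]; exact hs
    have h2 := congrArg CommRingCat.Hom.hom (Spec.map_injective ((chart_comp_toSpec n K i ψ).symm.trans h1))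
    simpa using RingHom.congr_fun h2 r
  refine ⟨v, fun h => ?_, (hypIdeal_le_ker_iff i ψ v hcomp G).1 ?_⟩
  · have : v i = 1 := by simp only [v, dh_self, map_one]
    rw [h] at this
    exact zero_ne_one this
  · rw [hψ]
    exact ((LefPen.hypIdeal G).ker_subschemeι).ge.trans (Scheme.Hom.le_ker_comp _ _)

theorem exists_section_of_zero (i : Fin (n + 1)) (v : Fin (n + 1) → K) (hvi : v i = 1)
    (hv : MvPolynomial.aeval v G.1 = 0) :
    ∃ s : Spec (CommRingCat.of K) ⟶ (LefPen.hypIdeal G).subscheme,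
      s ≫ (LefPen.hypIdeal G).subschemeι ≫ CohB1.ProjSpace.toSpec n K = 𝟙 _ := by
  obtain ⟨φ, hφ⟩ := exists_chartHom n K i v hvi
  refine ⟨IsClosedImmersion.lift (LefPen.hypIdeal G).subschemeι (Spec.map (CommRingCat.ofHom φ) ≫ chartι n K i)
    (((LefPen.hypIdeal G).ker_subschemeι).le.trans ((hypIdeal_le_ker_iff i φ v hφ G).2 hv)), ?_⟩
  rw [IsClosedImmersion.lift_fac_assoc, ← Spec.map_id]
  refine (Category.assoc _ _ _).trans ((chart_comp_toSpec n K i φ).trans (congrArg Spec.map ?_))
  refine CommRingCat.hom_ext (RingHom.ext fun r => ?_)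
  have := RingHom.congr_fun hφ (C r)
  simpa using this

end points

end Groth.Agent.HypBC
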